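import Groth.Agent.AlgSpDec.FinDeg
import Mathlib.AlgebraicGeometry.AlgClosed.Basic
import Mathlib.AlgebraicGeometry.Morphisms.Etale
import Mathlib.AlgebraicGeometry.Morphisms.FlatRank
import Mathlib.CategoryTheory.Monoidal.Cartesian.Over
import Mathlib.RingTheory.Etale.Field

/-!
Rational points in the fibres of a morphism over an algebraically closed field.
-/

set_option linter.style.haveILetI false
set_option linter.unusedSectionVars false
set_option autoImplicit false

universe u

open CategoryTheory CategoryTheory.Limits MonoidalCategory CartesianMonoidalCategory AlgebraicGeometry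

namespace Groth.Agent.AVTors

variable {k : Type u} [Field k]

/-- The points of `X` over `Spec k` lying over a point of `Y` are the sections of the fibre. -/
noncomputable def fibreEquiv {X Y : Over (Spec (CommRingCat.of k))} (f : X ⟶ Y)
    (y : 𝟙_ (Over (Spec (CommRingCat.of k))) ⟶ Y) :
    {x : 𝟙_ (Over (Spec (CommRingCat.of k))) ⟶ X // x ≫ f = y} ≃
      {s : Spec (CommRingCat.of k) ⟶ pullback f.left y.left // s ≫ pullback.snd f.left y.left = 𝟙 _} where
  toFun x := ⟨pullback.lift x.1.left (𝟙 _) (by
      rw [← Over.comp_left, x.2]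
      exact (Category.id_comp _).symm),
    pullback.lift_snd _ _ _⟩
  invFun s := ⟨Over.homMk (s.1 ≫ pullback.fst f.left y.left) (by
      have hy : y.left ≫ Y.hom = 𝟙 (Spec (CommRingCat.of k)) := Over.w y
      rw [← Over.w f, Category.assoc, ← Category.assoc (pullback.fst _ _), pullback.condition,
        Category.assoc, ← Category.assoc s.1, s.2, Category.id_comp]
      exact hy),
    Over.OverMorphism.ext (by
      show (s.1 ≫ pullback.fst f.left y.left) ≫ f.left = y.left
      rw [Category.assoc, pullback.condition, ← Category.assoc, s.2]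
      exact Category.id_comp _)⟩
  left_inv x := Subtype.ext (Over.OverMorphism.ext (pullback.lift_fst _ _ _))
  right_inv s := Subtype.ext (pullback.hom_ext (pullback.lift_fst _ _ _)
    ((pullback.lift_snd _ _ _).trans s.2.symm))

variable [IsAlgClosed k]

/-- The number of sections of a finite etale scheme over an algebraically closed field is its degree. -/
theorem card_sections {P : Scheme.{u}} (q : P ⟶ Spec (CommRingCat.of k)) [IsFinite q] [Etale q]
    (z : ↥(Spec (CommRingCat.of k))) :
    Nat.card {s : Spec (CommRingCat.of k) ⟶ P // s ≫ q = 𝟙 _} = q.finrank z := by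
  haveI : IsAffine P := isAffine_of_isAffineHom q
  obtain ⟨B, _, _, e, he⟩ := AlgSpDec.exists_spec q
  have hfin : IsFinite (Spec.map (CommRingCat.ofHom (algebraMap k B))) := by
    rw [show Spec.map (CommRingCat.ofHom (algebraMap k B)) = e.inv ≫ q by rw [← he, e.inv_hom_id_assoc]]
    infer_instance
  have het : Etale (Spec.map (CommRingCat.ofHom (algebraMap k B))) := by
    rw [show Spec.map (CommRingCat.ofHom (algebraMap k B)) = e.inv ≫ q by rw [← he, e.inv_hom_id_assoc]]
    infer_instance
  rw [IsFinite.SpecMap_iff] at hfin
  haveI : Module.Finite k B := RingHom.finite_algebraMap.1 hfin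
  rw [HasRingHomProperty.Spec_iff (P := @Etale)] at het
  haveI : Algebra.Etale k B := RingHom.etale_algebraMap.1 het
  haveI : IsArtinianRing B := IsArtinianRing.of_finite k B
  haveI : Flat q := inferInstance
  have hall : ∀ x : P, IsClosed ({x} : Set P) := fun x => by
    haveI : DiscreteTopology (Spec (CommRingCat.of B)) := inferInstanceAs (DiscreteTopology (PrimeSpectrum B))
    haveI : DiscreteTopology P := e.hom.homeomorph.isEmbedding.discreteTopology
    exact isClosed_discrete _
  rw [Nat.card_congr ((pointEquivClosedPoint q).trans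
    ((Equiv.subtypeUnivEquiv (fun x => hall x)).trans e.hom.homeomorph.toEquiv))]
  have h2 : q.finrank = Scheme.Hom.finrank (Spec.map (CommRingCat.ofHom (algebraMap k B))) := by
    haveI : IsFinite (Spec.map (CommRingCat.ofHom (algebraMap k B))) := by rw [IsFinite.SpecMap_iff]; exact hfin
    haveI : Flat (Spec.map (CommRingCat.ofHom (algebraMap k B))) := AlgSpDec.flat_toField _
    rw [← he, Scheme.Hom.finrank_comp_left_of_isIso]
  rw [h2]
  refine Eq.trans ?_ (Scheme.Hom.finrank_SpecMap_algebraMap k B z).symm
  rw [Module.rankAtStalk_eq_finrank_of_free]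
  show Nat.card (PrimeSpectrum B) = Module.finrank k B
  classical
  haveI := Fintype.ofFinite (PrimeSpectrum B)
  rw [(Algebra.FormallyEtale.equivPiOfIsSepClosed k B).toLinearEquiv.finrank_eq,
    Module.finrank_fintype_fun_eq_card, Nat.card_eq_fintype_card]

/-- The number of rational points over a rational point, for a finite etale morphism. -/
theorem card_fibre {X Y : Over (Spec (CommRingCat.of k))} (f : X ⟶ Y) [IsFinite f.left] [Etale f.left]
    (y : 𝟙_ (Over (Spec (CommRingCat.of k))) ⟶ Y) :
    Nat.card {x : 𝟙_ (Over (Spec (CommRingCat.of k))) ⟶ X // x ≫ f = y} =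
      f.left.finrank (y.left (IsLocalRing.closedPoint k)) := by
  haveI : IsFinite (pullback.snd f.left y.left) := inferInstance
  haveI : Flat f.left := inferInstance
  rw [Nat.card_congr (fibreEquiv f y), card_sections _ (IsLocalRing.closedPoint k)]
  exact Scheme.Hom.finrank_pullback_snd f.left y.left _

/-- Rational points lift along surjective morphisms locally of finite type. -/
theorem exists_lift {X Y : Over (Spec (CommRingCat.of k))} (f : X ⟶ Y) [Surjective f.left]
    [LocallyOfFiniteType f.left] (y : 𝟙_ (Over (Spec (CommRingCat.of k))) ⟶ Y) :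
    ∃ x : 𝟙_ (Over (Spec (CommRingCat.of k))) ⟶ X, x ≫ f = y := by
  let q : pullback f.left y.left ⟶ Spec (CommRingCat.of k) := pullback.snd f.left y.left
  haveI : LocallyOfFiniteType q := inferInstanceAs (LocallyOfFiniteType (pullback.snd f.left y.left))
  haveI : JacobsonSpace (pullback f.left y.left : Scheme.{u}) := LocallyOfFiniteType.jacobsonSpace q
  obtain ⟨w, -⟩ := (pullback.snd f.left y.left).surjective (IsLocalRing.closedPoint k)
  obtain ⟨c, -, hc⟩ := nonempty_inter_closedPoints
    (Z := (Set.univ : Set ↥(pullback f.left y.left))) ⟨w, trivial⟩ isOpen_univ.isLocallyClosed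
  exact ⟨_, ((fibreEquiv f y).symm ((pointEquivClosedPoint q).symm ⟨c, hc⟩)).2⟩

/-- Rational points are determined by their images. -/
theorem point_injective {X : Over (Spec (CommRingCat.of k))} [LocallyOfFiniteType X.hom] :
    Function.Injective fun x : 𝟙_ (Over (Spec (CommRingCat.of k))) ⟶ X =>
      x.left (IsLocalRing.closedPoint k) := by
  intro x y h
  let e := pointEquivClosedPoint X.hom
  have := e.injective (a₁ := ⟨x.left, Over.w x⟩) (a₂ := ⟨y.left, Over.w y⟩) (Subtype.ext h)
  exact Over.OverMorphism.ext (congrArg Subtype.val this)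

end Groth.Agent.AVTors
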