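import Mathlib.GroupTheory.FiniteAbelian.Basic
import Mathlib.GroupTheory.SpecificGroups.Cyclic
import Mathlib.GroupTheory.PGroup
import Mathlib.Data.Nat.Factorization.Induction
import Mathlib.Data.ZMod.Basic

/-!
Structure of the torsion of a commutative group from the numbers of torsion elements.
-/

set_option autoImplicit false
set_option linter.style.haveILetI false

namespace Groth.Agent.AVTors

variable {G : Type*} [CommGroup G]

/-- The elements killed by `n`. -/
def tor (G : Type*) [CommGroup G] (n : ℕ) : Subgroup G := (powMonoidHom n : G →* G).ker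

theorem mem_tor {n : ℕ} {x : G} : x ∈ tor G n ↔ x ^ n = 1 := Iff.rfl

theorem tor_mono {a b : ℕ} (h : a ∣ b) : tor G a ≤ tor G b := fun x hx => by
  obtain ⟨c, rfl⟩ := h
  rw [mem_tor] at hx ⊢
  rw [pow_mul, hx, one_pow]

theorem tor_one : tor G 1 = ⊥ := by
  ext x
  rw [mem_tor, pow_one, Subgroup.mem_bot]

/-- The torsion for a product of coprime numbers. -/
theorem nonempty_tor_mul {a b : ℕ} (h : a.Coprime b) :
    Nonempty (tor G a × tor G b ≃* tor G (a * b)) := by
  let f : tor G a × tor G b →* tor G (a * b) :=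
    (Subgroup.inclusion (tor_mono (Dvd.intro b rfl))).coprod
      (Subgroup.inclusion (tor_mono (Dvd.intro_left a rfl)))
  have hf : ∀ z, (f z : G) = (z.1 : G) * (z.2 : G) := fun z => rfl
  refine ⟨MulEquiv.ofBijective f ⟨?_, ?_⟩⟩
  · rw [injective_iff_map_eq_one]
    rintro ⟨⟨x, hx⟩, ⟨y, hy⟩⟩ he
    have he' : x * y = 1 := (hf _).symm.trans (congrArg Subtype.val he)
    have hxy : x = y⁻¹ := eq_inv_of_mul_eq_one_left he'
    rw [mem_tor] at hx hy
    have hxb : x ^ b = 1 := by rw [hxy, inv_pow, hy, inv_one]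
    have hx1 : x = 1 := by
      have := pow_gcd_eq_one.2 ⟨hx, hxb⟩
      rwa [h.gcd_eq_one, pow_one] at this
    have hy1 : y = 1 := by rwa [hx1, one_mul] at he'
    subst hx1 hy1
    rfl
  · rintro ⟨x, hx⟩
    have hb := Nat.gcd_eq_gcd_ab a b
    rw [h.gcd_eq_one] at hb
    rw [mem_tor] at hx
    refine ⟨⟨⟨x ^ ((b : ℤ) * Nat.gcdB a b), ?_⟩, ⟨x ^ ((a : ℤ) * Nat.gcdA a b), ?_⟩⟩, Subtype.ext ?_⟩
    · rw [mem_tor, ← zpow_natCast, ← zpow_mul, show (b : ℤ) * a.gcdB b * a = (a * b : ℕ) * a.gcdB b by push_cast; ring,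
        zpow_mul, zpow_natCast, hx, one_zpow]
    · rw [mem_tor, ← zpow_natCast, ← zpow_mul, show (a : ℤ) * a.gcdA b * b = (a * b : ℕ) * a.gcdA b by push_cast; ring,
        zpow_mul, zpow_natCast, hx, one_zpow]
    · rw [hf, ← zpow_add]
      show x ^ _ = x
      rw [add_comm, ← hb]
      simp

theorem card_tor_mul {a b : ℕ} (h : a.Coprime b) :
    Nat.card (tor G (a * b)) = Nat.card (tor G a) * Nat.card (tor G b) := by
  rw [← Nat.card_prod, Nat.card_congr (nonempty_tor_mul h).some.toEquiv]

/-- The prime power case. -/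
theorem nonempty_tor_prime_pow {p : ℕ} [hp : Fact p.Prime] {a r : ℕ} (ha : 1 ≤ a)
    (h1 : Nat.card (tor G p) = p ^ r) (h2 : Nat.card (tor G (p ^ a)) = p ^ (a * r)) :
    Nonempty (tor G (p ^ a) ≃* Multiplicative (Fin r → ZMod (p ^ a))) := by
  classical
  haveI : Finite (tor G (p ^ a)) := Nat.finite_of_card_ne_zero (by rw [h2]; exact pow_ne_zero _ hp.out.ne_zero)
  obtain ⟨ι, _, n, hn, ⟨e⟩⟩ := CommGroup.equiv_prod_multiplicative_zmod_of_finite (tor G (p ^ a))
  haveI : ∀ i, NeZero (n i) := fun i => ⟨by have := hn i; omega⟩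
  have hdvd : ∀ i, n i ∣ p ^ a := fun i => by
    have hall : ∀ f : (j : ι) → Multiplicative (ZMod (n j)), f ^ (p ^ a) = 1 := fun f => by
      apply e.symm.injective
      rw [map_pow, map_one]
      exact Subtype.ext (e.symm f).2
    have h := hall (Pi.mulSingle (M := fun j => Multiplicative (ZMod (n j))) i (Multiplicative.ofAdd (1 : ZMod (n i))))
    have h' := congrFun h i
    rw [Pi.pow_apply, Pi.mulSingle_eq_same] at h'
    have h'' : (p ^ a) • (1 : ZMod (n i)) = 0 := congrArg Multiplicative.toAdd h'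
    rw [nsmul_one] at h''
    exact (ZMod.natCast_eq_zero_iff _ _).1 h''
  choose E hE hnE using fun i => (Nat.dvd_prime_pow hp.out).1 (hdvd i)
  have hpn : ∀ i, p ∣ n i := fun i => by
    rw [hnE i]
    refine dvd_pow_self p fun h0 => ?_
    have h := hn i
    rw [hnE i, h0, pow_zero] at h
    exact lt_irrefl _ h
  have hker : Nat.card (tor G p) = p ^ Fintype.card ι := by
    have hle : tor G p ≤ tor G (p ^ a) := tor_mono (dvd_pow_self p (by omega))
    let φ : tor G p ≃ {f : (i : ι) → Multiplicative (ZMod (n i)) // ∀ i, (f i) ^ p = 1} :=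
      { toFun := fun x => ⟨e ⟨x, hle x.2⟩, fun i => by
          rw [← Pi.pow_apply, ← map_pow, show (⟨x, hle x.2⟩ : tor G (p ^ a)) ^ p = 1 from Subtype.ext x.2, map_one]
          rfl⟩
        invFun := fun f => ⟨e.symm f.1, by
          rw [mem_tor, ← SubmonoidClass.coe_pow, ← map_pow, show f.1 ^ p = 1 from funext f.2, map_one]
          rfl⟩
        left_inv := fun x => Subtype.ext (by simp)
        right_inv := fun f => Subtype.ext (by simp) }
    rw [Nat.card_congr φ, Nat.card_congr
      (Equiv.subtypePiEquivPi (p := fun i (x : Multiplicative (ZMod (n i))) => x ^ p = 1)), Nat.card_pi,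
      ← Finset.card_univ, ← Finset.prod_const]
    refine Finset.prod_congr rfl fun i _ => ?_
    show Nat.card (powMonoidHom p : Multiplicative (ZMod (n i)) →* _).ker = p
    rw [IsCyclic.card_powMonoidHom_ker, Nat.card_congr Multiplicative.toAdd, Nat.card_zmod,
      Nat.gcd_eq_right (hpn i)]
  have hr : Fintype.card ι = r := Nat.pow_right_injective hp.out.two_le (hker.symm.trans h1)
  have hsum : ∑ i, E i = a * r := by
    apply Nat.pow_right_injective hp.out.two_le
    show p ^ _ = p ^ _
    rw [← h2, Nat.card_congr e.toEquiv, Nat.card_pi, ← Finset.prod_pow_eq_pow_sum]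
    exact Finset.prod_congr rfl fun i _ => by rw [Nat.card_congr Multiplicative.toAdd, Nat.card_zmod, hnE]
  have hEa : ∀ i, E i = a := fun i => (Finset.sum_eq_sum_iff_of_le fun j _ => hE j).1
    (by rw [hsum, Finset.sum_const, Finset.card_univ, hr, smul_eq_mul, mul_comm]) i (Finset.mem_univ i)
  have hna : n = fun _ => p ^ a := funext fun i => by rw [hnE, hEa]
  subst hna
  let u : ι ≃ Fin r := Fintype.equivFinOfCardEq hr
  exact ⟨e.trans ((MulEquiv.piMultiplicative fun _ : ι => ZMod (p ^ a)).symm.trans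
    (AddEquiv.toMultiplicative (AddEquiv.arrowCongr u (AddEquiv.refl _))))⟩

/-- A commutative group with `d ^ r` elements killed by each `d ∣ n` has `n`-torsion `(ℤ/n)^r`. -/
theorem nonempty_tor_of_card {r : ℕ} : ∀ n : ℕ, 0 < n →
    (∀ d, d ∣ n → Nat.card (tor G d) = d ^ r) → Nonempty (tor G n ≃* Multiplicative (Fin r → ZMod n)) := by
  intro n
  induction n using Nat.recOnPosPrimePosCoprime with
  | prime_pow p a hp ha =>
    intro _ h
    haveI := Fact.mk hp
    exact nonempty_tor_prime_pow ha (h p (dvd_pow_self p (by omega))) (by rw [h _ dvd_rfl, ← pow_mul])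
  | zero => intro h; omega
  | one =>
    intro _ _
    haveI : Subsingleton (tor G 1) := by rw [tor_one]; infer_instance
    haveI : Subsingleton (ZMod 1) := inferInstanceAs (Subsingleton (Fin 1))
    haveI : Unique (tor G 1) := uniqueOfSubsingleton 1
    haveI : Unique (Multiplicative (Fin r → ZMod 1)) := @uniqueOfSubsingleton _ ⟨fun a b => funext fun _ => Subsingleton.elim _ _⟩ 1
    exact ⟨MulEquiv.ofUnique⟩
  | coprime a b ha hb hab iha ihb =>
    intro _ h
    obtain ⟨e1⟩ := iha (by omega) fun d hd => h d (hd.mul_right b)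
    obtain ⟨e2⟩ := ihb (by omega) fun d hd => h d (hd.mul_left a)
    obtain ⟨e⟩ := nonempty_tor_mul (G := G) hab
    let c : (Fin r → ZMod a) × (Fin r → ZMod b) ≃+ (Fin r → ZMod (a * b)) :=
      { toFun := fun z i => (ZMod.chineseRemainder hab).symm (z.1 i, z.2 i)
        invFun := fun z => (fun i => (ZMod.chineseRemainder hab (z i)).1, fun i => (ZMod.chineseRemainder hab (z i)).2)
        left_inv := fun z => by ext <;> simp
        right_inv := fun z => by ext; simp
        map_add' := fun z w => funext fun i => by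
          show (ZMod.chineseRemainder hab).symm _ = _ + _
          rw [← map_add]; rfl }
    exact ⟨e.symm.trans ((e1.prodCongr e2).trans
      (MulEquiv.prodMultiplicative _ _).symm |>.trans (AddEquiv.toMultiplicative c))⟩

/-- In a divisible group the number of elements killed by `p ^ m` is a power of the number killed by `p`. -/
theorem card_tor_pow {p : ℕ} (hdiv : ∀ x : G, ∃ y, y ^ p = x) :
    ∀ m : ℕ, Nat.card (tor G (p ^ m)) = Nat.card (tor G p) ^ m
  | 0 => by rw [pow_zero, pow_zero, tor_one]; simp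
  | m + 1 => by
    let f : tor G (p ^ (m + 1)) →* tor G (p ^ m) :=
      ((powMonoidHom p).comp (tor G (p ^ (m + 1))).subtype).codRestrict _ fun x => by
        show ((x : G) ^ p) ^ p ^ m = 1
        rw [← pow_mul, ← pow_succ']
        exact x.2
    have hf : Function.Surjective f := fun x => by
      obtain ⟨y, hy⟩ := hdiv x
      refine ⟨⟨y, ?_⟩, Subtype.ext hy⟩
      rw [mem_tor, pow_succ', pow_mul, hy]
      exact x.2
    let k : f.ker ≃ tor G p :=
      { toFun := fun x => ⟨(x.1 : G), congrArg Subtype.val x.2⟩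
        invFun := fun x => ⟨⟨x, tor_mono (dvd_pow_self p (by omega)) x.2⟩, Subtype.ext x.2⟩
        left_inv := fun _ => rfl
        right_inv := fun _ => rfl }
    rw [← f.ker.card_mul_index, Nat.card_congr k, Subgroup.index_ker,
      MonoidHom.range_eq_top.2 hf, Subgroup.card_top, card_tor_pow hdiv m, pow_succ']

/-- The group killed by `p` has order a power of `p`. -/
theorem exists_card_tor_prime {p : ℕ} [hp : Fact p.Prime] [Finite (tor G p)] :
    ∃ i, Nat.card (tor G p) = p ^ i :=
  IsPGroup.exists_card_eq (fun x => ⟨1, by rw [pow_one]; exact Subtype.ext x.2⟩)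

end Groth.Agent.AVTors
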