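import Groth.Prelude.Def_AbDual
import Groth.Agent.AVTors.Points
import Groth.Agent.AVTors.Structure
import Groth.Agent.AVDegLib.MulN
import Groth.Agent.H23.MulEtale
import Groth.Agent.GrpSchLib.IsogenyFibre
import Groth.Agent.S1843

/-!
Torsion points of abelian varieties over algebraically closed fields.
-/

set_option linter.style.haveILetI false
set_option linter.unusedSectionVars false
set_option backward.isDefEq.respectTransparency false
set_option backward.isDefEq.respectTransparency.types false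
set_option maxHeartbeats 1000000
set_option autoImplicit false

universe u

open CategoryTheory CategoryTheory.Limits MonoidalCategory CartesianMonoidalCategory MonObj GrpObj AlgebraicGeometry

namespace Groth.Agent.AVTors

variable {k : Type u} [Field k]

/-- A smooth proper group scheme with geometrically connected fibres over a field is geometrically integral. -/
theorem geometricallyIntegral_of_smooth (A : Over (Spec (CommRingCat.of k))) [GrpObj A] [IsProper A.hom]
    [Smooth A.hom] [GeometricallyConnected A.hom] : GeometricallyIntegral A.hom := by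
  haveI : GeometricallyReduced A.hom := GrpSchLib.IsogenyFibre.geometricallyReduced_of_smooth' A.hom
  haveI : Nonempty A.left := ⟨η[A].left (IsLocalRing.closedPoint k)⟩
  haveI : ConnectedSpace A.left := GeometricallyConnected.connectedSpace_of_subsingleton (f := A.hom)
  exact H23.MaxAbelian.geometricallyIntegral_of_connected A

/-- Geometrically irreducible morphisms are geometrically connected. -/
theorem geometricallyConnected_of_irreducible {X S : Scheme.{u}} (f : X ⟶ S) [GeometricallyIrreducible f] :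
    GeometricallyConnected f :=
  ⟨fun K _ y P fst snd h => by
    haveI : IrreducibleSpace P := GeometricallyIrreducible.geometrically_irreducibleSpace (f := f) y fst snd h
    show ConnectedSpace P
    infer_instance⟩

variable {A : Over (Spec (CommRingCat.of k))} [GrpObj A] [IsProper A.hom] [GeometricallyIntegral A.hom]
  [IsCommMonObj A]

theorem mem_torsPts_iff {n : ℕ} (x : 𝟙_ (Over (Spec (CommRingCat.of k))) ⟶ A) :
    x ∈ AbDual.torsPts A n (𝟙_ (Over (Spec (CommRingCat.of k)))) ↔ x ≫ (𝟙 A ^ n) = 1 := by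
  rw [AbDual.mem_torsPts, MonObj.comp_pow, Category.comp_id]

theorem torsPts_eq_tor (n : ℕ) (T : Over (Spec (CommRingCat.of k))) :
    AbDual.torsPts A n T = tor (T ⟶ A) n := rfl

variable [IsAlgClosed k]

/-- The number of rational points killed by an invertible integer. -/
theorem card_tor_of_invertible {g : ℕ} (hg : topologicalKrullDim A.left = g) {n : ℕ} (hn : (n : k) ≠ 0) :
    Nat.card (tor (𝟙_ (Over (Spec (CommRingCat.of k))) ⟶ A) n) = n ^ (2 * g) := by
  have hn0 : n ≠ 0 := by rintro rfl; exact hn Nat.cast_zero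
  have hn1 : 1 ≤ n := Nat.one_le_iff_ne_zero.2 hn0
  haveI := AVMulN.isFinite_pow (A := A) n hn1
  have hu : IsUnit (n : Γ(Spec (CommRingCat.of k), ⊤)) := by
    have h := (isUnit_iff_ne_zero.2 hn).map (Scheme.ΓSpecIso (CommRingCat.of k)).inv.hom
    rwa [map_natCast] at h
  haveI := geometricallyConnected_of_irreducible A.hom
  haveI : Etale (𝟙 A ^ n : A ⟶ A).left := H23.MulEtale.etale_pow n hu
  have h := card_fibre (𝟙 A ^ n : A ⟶ A) 1
  rw [← Nat.card_congr (Equiv.subtypeEquivRight (q := fun x => x ≫ (𝟙 A ^ n : A ⟶ A) = 1)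
    (p := fun x => x ∈ tor (𝟙_ (Over (Spec (CommRingCat.of k))) ⟶ A) n) fun x => mem_torsPts_iff x)] at h
  refine h.trans ?_
  have h2 := AVDegLib.finrank_zpow (A := A) hg (n : ℤ) (Int.natCast_ne_zero.2 hn0)
    ((1 : 𝟙_ (Over (Spec (CommRingCat.of k))) ⟶ A).left (IsLocalRing.closedPoint k))
  rw [Int.natAbs_natCast] at h2
  rwa [zpow_natCast] at h2

/-- The points killed by an invertible integer form a free `ℤ/n`-module of rank `2g`. -/
theorem nonempty_torsPts {g : ℕ} (hg : topologicalKrullDim A.left = g) {n : ℕ} (hn : (n : k) ≠ 0) :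
    Nonempty (AbDual.torsPts A n (𝟙_ (Over (Spec (CommRingCat.of k)))) ≃* Multiplicative (Fin (2 * g) → ZMod n)) := by
  refine nonempty_tor_of_card n (Nat.pos_of_ne_zero (by rintro rfl; exact hn Nat.cast_zero)) fun d hd => ?_
  refine card_tor_of_invertible hg fun h => hn ?_
  obtain ⟨c, rfl⟩ := hd
  rw [Nat.cast_mul, h, zero_mul]

/-- The rational points form a divisible group. -/
theorem exists_pow_eq {n : ℕ} (hn : 1 ≤ n) (a : 𝟙_ (Over (Spec (CommRingCat.of k))) ⟶ A) :
    ∃ b : 𝟙_ (Over (Spec (CommRingCat.of k))) ⟶ A, b ^ n = a := by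
  haveI := AVMulN.surjective_pow (A := A) n hn
  haveI := AVMulN.isFinite_pow (A := A) n hn
  obtain ⟨b, hb⟩ := exists_lift (𝟙 A ^ n : A ⟶ A) a
  exact ⟨b, by rw [← hb, MonObj.comp_pow, Category.comp_id]⟩

variable (p : ℕ) [Fact p.Prime] [CharP k p]

/-- In characteristic `p` at most `p ^ g` rational points are killed by `p`. -/
theorem card_tor_char {g : ℕ} (hg : topologicalKrullDim A.left = g) :
    Finite (tor (𝟙_ (Over (Spec (CommRingCat.of k))) ⟶ A) p) ∧
      Nat.card (tor (𝟙_ (Over (Spec (CommRingCat.of k))) ⟶ A) p) ≤ p ^ g := by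
  have h := S1843.result k p A g hg
  set S := {a : A.left | (𝟙 A ^ p).left a = η[A].left (IsLocalRing.closedPoint k)}
  have hS : S.Finite := Set.finite_of_encard_le_coe h
  haveI : Finite S := hS.to_subtype
  have hmem : ∀ x : tor (𝟙_ (Over (Spec (CommRingCat.of k))) ⟶ A) p,
      x.1.left (IsLocalRing.closedPoint k) ∈ S := fun x => by
    have h1 : x.1 ≫ (𝟙 A ^ p) = η[A] := by
      refine ((mem_torsPts_iff x.1).1 x.2).trans ?_
      rw [Hom.one_def, toUnit_unique (toUnit (𝟙_ _)) (𝟙 _), Category.id_comp]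
    exact congrArg (fun z : 𝟙_ (Over (Spec (CommRingCat.of k))) ⟶ A => z.left (IsLocalRing.closedPoint k)) h1
  have hinj : Function.Injective fun x => (⟨_, hmem x⟩ : S) :=
    fun x y hxy => Subtype.ext (point_injective (congrArg Subtype.val hxy))
  refine ⟨Finite.of_injective _ hinj, (Nat.card_le_card_of_injective _ hinj).trans ?_⟩
  rw [← hS.cast_ncard_eq] at h
  rw [Nat.card_coe_set_eq]
  exact_mod_cast h

/-- The `p`-rank. -/
theorem exists_pRank {g : ℕ} (hg : topologicalKrullDim A.left = g) :
    ∃ i, i ≤ g ∧ ∀ m, Nat.card (tor (𝟙_ (Over (Spec (CommRingCat.of k))) ⟶ A) (p ^ m)) = (p ^ m) ^ i := by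
  obtain ⟨hfin, hle⟩ := card_tor_char (A := A) p hg
  obtain ⟨i, hi⟩ := exists_card_tor_prime (G := 𝟙_ (Over (Spec (CommRingCat.of k))) ⟶ A) (p := p)
  refine ⟨i, (Nat.pow_le_pow_iff_right (Fact.out : p.Prime).one_lt).1 (hi ▸ hle), fun m => ?_⟩
  rw [card_tor_pow (fun x => exists_pow_eq (Fact.out : p.Prime).one_le x) m, hi, ← pow_mul, ← pow_mul, mul_comm]

theorem exists_pRank_mulEquiv {g : ℕ} (hg : topologicalKrullDim A.left = g) :
    ∃ i, i ≤ g ∧ ∀ m, Nonempty (AbDual.torsPts A (p ^ m) (𝟙_ (Over (Spec (CommRingCat.of k)))) ≃*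
      Multiplicative (Fin i → ZMod (p ^ m))) := by
  obtain ⟨i, hi, h⟩ := exists_pRank (A := A) p hg
  refine ⟨i, hi, fun m => nonempty_tor_of_card _ (pow_pos (Fact.out : p.Prime).pos m) fun d hd => ?_⟩
  obtain ⟨j, -, rfl⟩ := (Nat.dvd_prime_pow (Fact.out : p.Prime)).1 hd
  exact h j

end Groth.Agent.AVTors
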