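import Groth.Agent.AVTors.Torsion

/-!
The number of torsion points killed by an arbitrary positive integer.
-/

set_option linter.style.haveILetI false
set_option linter.unusedSectionVars false
set_option autoImplicit false

universe u

open CategoryTheory CategoryTheory.Limits MonoidalCategory CartesianMonoidalCategory MonObj GrpObj AlgebraicGeometry

namespace Groth.Agent.AVTors

variable {k : Type u} [Field k] [IsAlgClosed k] {A : Over (Spec (CommRingCat.of k))} [GrpObj A] [IsProper A.hom]
  [GeometricallyIntegral A.hom] [IsCommMonObj A]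

/-- The number of points killed by `n` divides `n ^ (2g)`, with equality exactly for `n` invertible in `k`. -/
theorem card_tor_dvd_and_eq_iff {g : ℕ} (hg : topologicalKrullDim A.left = g) (hg0 : 0 < g) {n : ℕ} (hn : 0 < n) :
    Nat.card (tor (𝟙_ (Over (Spec (CommRingCat.of k))) ⟶ A) n) ∣ n ^ (2 * g) ∧
      (Nat.card (tor (𝟙_ (Over (Spec (CommRingCat.of k))) ⟶ A) n) = n ^ (2 * g) ↔ (n : k) ≠ 0) := by
  by_cases hnk : (n : k) = 0
  swap
  · rw [card_tor_of_invertible hg hnk]
    exact ⟨dvd_rfl, iff_of_true rfl hnk⟩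
  obtain ⟨p, hp'⟩ := CharP.exists k
  rcases CharP.char_is_prime_or_zero k p with hp | rfl
  swap
  · haveI : CharZero k := CharP.charP_to_charZero k
    exact absurd (Nat.cast_eq_zero.1 hnk) hn.ne'
  haveI := Fact.mk hp
  obtain ⟨m, n', hndvd, rfl⟩ := Nat.exists_eq_pow_mul_and_not_dvd hn.ne' p hp.ne_one
  have hn' : (n' : k) ≠ 0 := fun h => hndvd ((CharP.cast_eq_zero_iff k p n').1 h)
  have hm : 1 ≤ m := by
    rcases Nat.eq_zero_or_pos m with rfl | h
    · rw [pow_zero, _root_.one_mul] at hnk
      exact absurd hnk hn'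
    · exact h
  obtain ⟨i, hi, hcard⟩ := exists_pRank (A := A) p hg
  rw [card_tor_mul ((hp.coprime_iff_not_dvd.2 hndvd).pow_left m), hcard m, card_tor_of_invertible hg hn', mul_pow]
  have hn'0 : 0 < n' := Nat.pos_of_ne_zero (by rintro rfl; exact hn' Nat.cast_zero)
  refine ⟨Nat.mul_dvd_mul_right (pow_dvd_pow _ (by omega)) _, iff_of_false (fun h => ?_) (not_not.2 hnk)⟩
  have h1 := Nat.eq_of_mul_eq_mul_right (pow_pos hn'0 _) h
  have h2 := Nat.pow_right_injective (Nat.one_lt_pow (by omega) hp.one_lt) h1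
  omega

end Groth.Agent.AVTors
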