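import Groth.Agent.H23.RatProductK
import Groth.Agent.GrpSchLib.IsogenyFibre
import Groth.Agent.H23.MaxAbelian
import Mathlib.AlgebraicGeometry.SpreadingOut
import Mathlib.AlgebraicGeometry.FunctionField
import Mathlib.AlgebraicGeometry.AffineSpace
import Mathlib.RingTheory.Localization.FractionRing

/-!
Points of abelian varieties with values in purely transcendental extensions are constant.
-/

set_option linter.style.haveILetI false
set_option linter.unusedSectionVars false
set_option backward.isDefEq.respectTransparency false
set_option backward.isDefEq.respectTransparency.types false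
set_option autoImplicit false

universe u

open CategoryTheory CategoryTheory.Limits MonoidalCategory CartesianMonoidalCategory MonObj AlgebraicGeometry

namespace Groth.Agent.AVTors.RatPoints

variable {F : Type u} [Field F] (n : ℕ)

/-- The generic point of an affine scheme as the spectrum of the fraction field. -/
theorem exists_iso_generic (R : CommRingCat.{u}) [IsDomain R] :
    ∃ (m : Spec (Spec R).functionField ⟶ Spec (CommRingCat.of (FractionRing R))), IsIso m ∧
      m ≫ Spec.map (CommRingCat.ofHom (algebraMap R (FractionRing R))) =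
        (Spec R).fromSpecStalk (genericPoint (Spec R)) := by
  let K := (Spec R).functionField
  let ψ : FractionRing R ≃ₐ[R] K := FractionRing.algEquiv R K
  refine ⟨Spec.map ψ.toRingEquiv.toCommRingCatIso.hom, inferInstance, ?_⟩
  rw [Spec.fromSpecStalk_eq', ← Spec.map_comp]
  congr 1
  refine CommRingCat.hom_ext (RingHom.ext fun r => ?_)
  exact ψ.commutes r

/-- Affine space as the spectrum of a polynomial ring. -/
noncomputable abbrev specPoly (F : Type u) [Field F] (n : ℕ) : Over (Spec (CommRingCat.of F)) :=
  Over.mk (Spec.map (CommRingCat.ofHom (algebraMap F (MvPolynomial (Fin n) F))))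

/-- The comparison with affine space. -/
noncomputable def iso : H23.RatProductK.affine F (ULift.{u} (Fin n)) ≅ specPoly F n :=
  Over.isoMk (AffineSpace.SpecIso (ULift.{u} (Fin n)) (CommRingCat.of F) ≪≫
      Scheme.Spec.mapIso (MvPolynomial.renameEquiv F (Equiv.ulift.{u, 0} (α := Fin n))).symm.toRingEquiv.toCommRingCatIso.op)
    (by
      show (_ ≫ Spec.map _) ≫ Spec.map _ = _
      rw [Category.assoc, ← Spec.map_comp]
      refine Eq.trans (congrArg (_ ≫ ·) (Eq.trans ?_ (AffineSpace.SpecIso_inv_over (CommRingCat.of F)).symm))
        (Iso.hom_inv_id_assoc _ _)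
      congr 1
      refine CommRingCat.hom_ext (RingHom.ext fun c => ?_)
      exact (MvPolynomial.renameEquiv F (Equiv.ulift.{u, 0} (α := Fin n))).symm.commutes c)

variable {A : Over (Spec (CommRingCat.of F))} [GrpObj A] [IsProper A.hom] [GeometricallyIntegral A.hom]

/-- A morphism from `Spec` of the field of rational functions is constant. -/
theorem exists_const (y : Over.mk (Spec.map (CommRingCat.ofHom
      (algebraMap F (FractionRing (MvPolynomial (Fin n) F))))) ⟶ A) :
    ∃ a : 𝟙_ (Over (Spec (CommRingCat.of F))) ⟶ A, y = toUnit _ ≫ a := by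
  let R := MvPolynomial (Fin n) F
  let X := specPoly F n
  let J := ULift.{u} (Fin n)
  haveI := H23.RatProductK.smooth_affine (K := F) J
  have hX : X.hom = (iso (F := F) n).inv.left ≫ (H23.RatProductK.affine F J).hom := (Over.w _).symm
  haveI : Smooth X.hom := by rw [hX]; infer_instance
  haveI : IsSeparated X.hom := inferInstanceAs (IsSeparated (Spec.map _))
  haveI : QuasiCompact X.hom := inferInstanceAs (QuasiCompact (Spec.map _))
  haveI : GeometricallyIntegral X.hom := by
    rw [hX]
    haveI : GeometricallyIntegral (H23.RatProductK.affine F J).hom :=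
      inferInstanceAs (GeometricallyIntegral (𝔸(J; Spec (CommRingCat.of F)) ↘ Spec (CommRingCat.of F)))
    exact (MorphismProperty.cancel_left_of_respectsIso @GeometricallyIntegral _ _).2 inferInstance
  haveI : IsIntegral X.left := inferInstanceAs (IsIntegral (Spec (CommRingCat.of R)))
  let x₀ := genericPoint (Spec (CommRingCat.of R))
  obtain ⟨m, hmi, hm⟩ := exists_iso_generic (CommRingCat.of R)
  have htower : Spec.map (CommRingCat.ofHom (algebraMap R (FractionRing R))) ≫ X.hom =
      Spec.map (CommRingCat.ofHom (algebraMap F (FractionRing R))) := by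
    show _ ≫ Spec.map _ = _
    rw [← Spec.map_comp, ← CommRingCat.ofHom_comp, ← IsScalarTower.algebraMap_eq]
  have hy : y.left ≫ A.hom = Spec.map (CommRingCat.ofHom (algebraMap F (FractionRing R))) := Over.w y
  have h0 : (m ≫ y.left) ≫ A.hom = (Spec (CommRingCat.of R)).fromSpecStalk x₀ ≫ X.hom := by
    rw [Category.assoc, hy, ← hm, Category.assoc, htower]
  obtain ⟨U, hU, f, hf, hfw⟩ := spread_out_of_isGermInjective' X.hom A.hom (x := x₀) (m ≫ y.left) h0
  obtain ⟨g, hg⟩ := H23.RatExt.exists_extension (X := X) U ⟨_, hU⟩ f hfw
  obtain ⟨a, ha⟩ := H23.RatProductK.affine_const (K := F) J ((iso (F := F) n).hom ≫ g)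
  have hg' : g = toUnit X ≫ a := by
    rw [← cancel_epi (iso (F := F) n).hom, ha, ← Category.assoc, comp_toUnit]
  refine ⟨a, Over.OverMorphism.ext ?_⟩
  rw [← cancel_epi m, hf, ← hg, Scheme.Opens.fromSpecStalkOfMem_ι_assoc, hg']
  erw [← hm, Category.assoc]
  refine congrArg (m ≫ ·) ?_
  show _ ≫ X.hom ≫ a.left = Spec.map _ ≫ a.left
  rw [← Category.assoc, htower]

/-- Base change of rational points to the field of rational functions is bijective. -/
theorem bijective :
    Function.Bijective (fun x : (Over.mk (𝟙 (Spec (CommRingCat.of F))) ⟶ A) =>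
      (Over.homMk (Spec.map (CommRingCat.ofHom (algebraMap F (FractionRing (MvPolynomial (Fin n) F)))))
          (Category.comp_id _) :
        Over.mk (Spec.map (CommRingCat.ofHom (algebraMap F (FractionRing (MvPolynomial (Fin n) F))))) ⟶
          Over.mk (𝟙 (Spec (CommRingCat.of F)))) ≫ x) := by
  constructor
  · intro x y h
    let σ := Spec.map (CommRingCat.ofHom (algebraMap F (FractionRing (MvPolynomial (Fin n) F))))
    have : Surjective σ := ⟨Function.surjective_to_subsingleton (α := PrimeSpectrum _) (β := PrimeSpectrum F) _⟩
    have : Flat σ := by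
      rw [HasRingHomProperty.Spec_iff (P := @Flat)]
      exact RingHom.flat_algebraMap_iff.2 inferInstance
    haveI : EffectiveEpi σ := inferInstance
    exact Over.OverMorphism.ext ((cancel_epi σ).1 (congrArg CommaMorphism.left h))
  · intro y
    obtain ⟨a, rfl⟩ := exists_const n y
    exact ⟨a, rfl⟩

end Groth.Agent.AVTors.RatPoints
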